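import Mathlib

/-!
# Cosets of a normal subgroup contained in a conjugacy class: fixed points

If all the elements of the coset `x N` (`N` normal in `G`) are conjugate to `x`, then `x` has exactly one fixed
point on each `G`-set on which `N` is transitive.
-/

set_option autoImplicit false

namespace Cfsg.Agent.H498.CosetFix

open MulAction

variable {G : Type*} [Group G]

/-- the number of fixed points is a class function -/
theorem card_fixedBy_conj {Ω : Type*} [MulAction G Ω] {x y : G} (h : IsConj x y) :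
    Nat.card (fixedBy Ω x) = Nat.card (fixedBy Ω y) := by
  obtain ⟨c, hc⟩ := isConj_iff.1 h
  refine Nat.card_congr ⟨fun ω => ⟨c • ω.1, ?_⟩, fun ω => ⟨c⁻¹ • ω.1, ?_⟩, fun ω => ?_, fun ω => ?_⟩
  · have h1 : x • ω.1 = ω.1 := ω.2
    show y • c • ω.1 = c • ω.1
    rw [← hc, smul_smul, inv_mul_cancel_right, mul_smul, h1]
  · have h1 : y • ω.1 = ω.1 := ω.2
    show x • c⁻¹ • ω.1 = c⁻¹ • ω.1
    have h2 : x * c⁻¹ = c⁻¹ * y := by rw [← hc]; group
    rw [smul_smul, h2, mul_smul, h1]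
  · exact Subtype.ext (inv_smul_smul c ω.1)
  · exact Subtype.ext (smul_inv_smul c ω.1)

/-- **The fixed point lemma.** -/
theorem card_fixedBy_eq_one {Ω : Type*} [Finite G] [Finite Ω] [Nonempty Ω] [MulAction G Ω] (N : Subgroup G)
    (htr : ∀ a b : Ω, ∃ n ∈ N, n • a = b) {x : G} (hx : ∀ n ∈ N, IsConj x (x * n)) :
    Nat.card (fixedBy Ω x) = 1 := by
  classical
  have hpos : 0 < Nat.card Ω := Nat.card_pos
  -- the pairs `(n, ω)` with `x n ω = ω`
  have h1 : Nat.card {p : N × Ω // (x * (p.1 : G)) • p.2 = p.2} = Nat.card N * Nat.card (fixedBy Ω x) := by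
    have e : {p : N × Ω // (x * (p.1 : G)) • p.2 = p.2} ≃ Σ n : N, fixedBy Ω (x * (n : G)) :=
      ⟨fun p => ⟨p.1.1, ⟨p.1.2, p.2⟩⟩, fun p => ⟨(p.1, p.2.1), p.2.2⟩, fun _ => rfl, fun _ => rfl⟩
    have : Fintype N := Fintype.ofFinite N
    rw [Nat.card_congr e, Nat.card_sigma]
    rw [Finset.sum_congr rfl (fun (n : N) _ => (card_fixedBy_conj (Ω := Ω) (hx (n : G) n.2)).symm)]
    rw [Finset.sum_const, Finset.card_univ, smul_eq_mul, Nat.card_eq_fintype_card (α := N)]
  have h2 : Nat.card {p : N × Ω // (x * (p.1 : G)) • p.2 = p.2} = Nat.card N := by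
    have e : {p : N × Ω // (x * (p.1 : G)) • p.2 = p.2} ≃ Σ ω : Ω, {n : N // (x * (n : G)) • ω = ω} :=
      ⟨fun p => ⟨p.1.2, ⟨p.1.1, p.2⟩⟩, fun p => ⟨(p.2.1, p.1), p.2.2⟩, fun _ => rfl, fun _ => rfl⟩
    have : Fintype Ω := Fintype.ofFinite Ω
    rw [Nat.card_congr e, Nat.card_sigma]
    have h3 : ∀ ω : Ω, Nat.card {n : N // (x * (n : G)) • ω = ω} * Nat.card Ω = Nat.card N := by
      intro ω
      obtain ⟨n₀, hn₀, hn₀'⟩ := htr ω (x⁻¹ • ω)
      have h4 : Nat.card {n : N // (x * (n : G)) • ω = ω} = Nat.card (stabilizer N ω) := by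
        refine Nat.card_congr ⟨fun n => ⟨⟨n₀, hn₀⟩⁻¹ * n.1, ?_⟩, fun n => ⟨⟨n₀, hn₀⟩ * n.1, ?_⟩, fun n => ?_,
          fun n => ?_⟩
        · rw [mem_stabilizer_iff]
          have h5 := n.2
          show (n₀⁻¹ * (n.1 : G)) • ω = ω
          rw [mul_smul, inv_smul_eq_iff, hn₀', eq_inv_smul_iff, ← mul_smul]
          exact h5
        · have h5 : (n.1 : G) • ω = ω := n.2
          show (x * (n₀ * (n.1 : G))) • ω = ω
          rw [mul_smul, mul_smul, h5, hn₀', smul_inv_smul]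
        · exact Subtype.ext (mul_inv_cancel_left _ _)
        · exact Subtype.ext (inv_mul_cancel_left _ _)
      have h5 : orbit N ω = Set.univ := by
        rw [Set.eq_univ_iff_forall]
        intro b
        obtain ⟨n, hn, hb⟩ := htr ω b
        exact ⟨⟨n, hn⟩, hb⟩
      have : Fintype N := Fintype.ofFinite N
      have : Fintype (stabilizer N ω) := Fintype.ofFinite _
      have h6 := card_orbit_mul_card_stabilizer_eq_card_group N ω
      rw [← Nat.card_eq_fintype_card, ← Nat.card_eq_fintype_card, ← Nat.card_eq_fintype_card, h5,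
        Nat.card_univ] at h6
      rw [h4, mul_comm, h6]
    have h7 : (∑ ω : Ω, Nat.card {n : N // (x * (n : G)) • ω = ω}) * Nat.card Ω = Nat.card N * Nat.card Ω := by
      rw [Finset.sum_mul, Finset.sum_congr rfl (fun ω _ => h3 ω), Finset.sum_const, Finset.card_univ,
        smul_eq_mul, mul_comm, Nat.card_eq_fintype_card (α := Ω)]
    exact Nat.eq_of_mul_eq_mul_right hpos h7
  rw [h1] at h2
  have hN : 0 < Nat.card N := Nat.card_pos
  have h8 : Nat.card N * Nat.card (fixedBy Ω x) = Nat.card N * 1 := by rw [h2, mul_one]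
  exact Nat.eq_of_mul_eq_mul_left hN h8

theorem existsUnique_fixed {Ω : Type*} [Finite G] [Finite Ω] [Nonempty Ω] [MulAction G Ω] (N : Subgroup G)
    (htr : ∀ a b : Ω, ∃ n ∈ N, n • a = b) {x : G} (hx : ∀ n ∈ N, IsConj x (x * n)) :
    ∃! ω : Ω, x • ω = ω := by
  have h1 := card_fixedBy_eq_one N htr hx
  rw [Nat.card_eq_one_iff_unique] at h1
  obtain ⟨h2, ⟨ω⟩⟩ := h1
  exact ⟨ω.1, ω.2, fun b hb => congrArg Subtype.val (h2.elim ⟨b, hb⟩ ω)⟩

/-- the condition passes to quotients -/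
theorem isConj_quotient {x : G} {N : Subgroup G} (hx : ∀ n ∈ N, IsConj x (x * n)) (L : Subgroup G) [L.Normal] :
    ∀ n ∈ N.map (QuotientGroup.mk' L), IsConj (QuotientGroup.mk' L x) (QuotientGroup.mk' L x * n) := by
  rintro _ ⟨n, hn, rfl⟩
  rw [← map_mul]
  obtain ⟨c, hc⟩ := isConj_iff.1 (hx n hn)
  exact isConj_iff.2 ⟨QuotientGroup.mk' L c, by rw [← hc]; simp⟩

end Cfsg.Agent.H498.CosetFix
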