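import Mathlib

/-!
# Cosets of a normal subgroup contained in a conjugacy class: reduction to simple groups

Let `V` be normal in the finite group `G` and `x ∈ G` with all the elements of `x V` conjugate to `x`. If `L` is a
simple normal subgroup of `V` and `m` is the length of its orbit under `x`, `α` the automorphism of `L` induced by
`x ^ m`, then all the elements of the coset `α Inn(L)` are conjugate to `α` in `Aut(L)`.
-/

set_option autoImplicit false

namespace Cfsg.Agent.H498.CosetRed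

variable {G : Type*} [Group G]

/-- the conjugate `g K g⁻¹` -/
def cj (g : G) (K : Subgroup G) : Subgroup G := K.map (MulAut.conj g).toMonoidHom

theorem mem_cj {g y : G} {K : Subgroup G} : y ∈ cj g K ↔ g⁻¹ * y * g ∈ K := by
  constructor
  · rintro ⟨k, hk, rfl⟩
    have : g⁻¹ * ((MulAut.conj g).toMonoidHom k) * g = k := by
      simp only [MulEquiv.coe_toMonoidHom, MulAut.conj_apply]
      group
    rwa [this]
  · intro h
    refine ⟨_, h, ?_⟩
    simp only [MulEquiv.coe_toMonoidHom, MulAut.conj_apply]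
    group

theorem cj_mul (g h : G) (K : Subgroup G) : cj (g * h) K = cj g (cj h K) := by
  ext y
  rw [mem_cj, mem_cj, mem_cj]
  have : (g * h)⁻¹ * y * (g * h) = h⁻¹ * (g⁻¹ * y * g) * h := by group
  rw [this]

theorem cj_one (K : Subgroup G) : cj 1 K = K := by
  ext y
  rw [mem_cj, inv_one, one_mul, mul_one]

theorem conj_mem_cj {g k : G} {K : Subgroup G} (hk : k ∈ K) : g * k * g⁻¹ ∈ cj g K := by
  rw [mem_cj]
  have : g⁻¹ * (g * k * g⁻¹) * g = k := by group
  rwa [this]

/-- the isomorphism of `K` on its conjugate -/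
noncomputable def cjEquiv (g : G) (K : Subgroup G) : K ≃* cj g K :=
  K.equivMapOfInjective (MulAut.conj g).toMonoidHom (MulAut.conj g).injective

theorem coe_cjEquiv (g : G) (K : Subgroup G) (k : K) : (cjEquiv g K k : G) = g * k * g⁻¹ := rfl

/-- the simple normal subgroups of `V` -/
structure Fac (V K : Subgroup G) : Prop where
  le : K ≤ V
  norm : ∀ v ∈ V, ∀ k ∈ K, v * k * v⁻¹ ∈ K
  simple : IsSimpleGroup K

theorem Fac.cj {V : Subgroup G} [V.Normal] {K : Subgroup G} (h : Fac V K) (g : G) : Fac V (cj g K) := by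
  refine ⟨fun y hy => ?_, fun v hv k hk => ?_, ?_⟩
  · have h1 := h.le (mem_cj.1 hy)
    have h2 := (inferInstance : V.Normal).conj_mem _ h1 g
    have h3 : g * (g⁻¹ * y * g) * g⁻¹ = y := by group
    rwa [h3] at h2
  · rw [mem_cj] at hk ⊢
    have h1 := h.norm (g⁻¹ * v * g) (by
      have h2 := (inferInstance : V.Normal).conj_mem _ hv g⁻¹
      rwa [inv_inv] at h2) _ hk
    have h3 : g⁻¹ * v * g * (g⁻¹ * k * g) * (g⁻¹ * v * g)⁻¹ = g⁻¹ * (v * k * v⁻¹) * g := by group
    rwa [h3] at h1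
  · have := h.simple
    exact (cjEquiv g K).symm.isSimpleGroup

theorem Fac.eq_of_le {V : Subgroup G} {K K' : Subgroup G} (h : Fac V K) (h' : Fac V K') (hle : K ≤ K') : K = K' := by
  have hn : (K.subgroupOf K').Normal := by
    constructor
    intro n hn g
    rw [Subgroup.mem_subgroupOf] at hn ⊢
    exact h.norm _ (h'.le g.2) _ hn
  have := h'.simple
  rcases hn.eq_bot_or_eq_top with h1 | h1
  · exfalso
    have := h.simple
    obtain ⟨a, ha⟩ := exists_ne (1 : K)
    apply ha
    have h2 : (⟨a, hle a.2⟩ : K') ∈ K.subgroupOf K' := a.2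
    rw [h1, Subgroup.mem_bot] at h2
    have h3 : (a : G) = 1 := congrArg (fun z : K' => (z : G)) h2
    exact Subtype.ext h3
  · exact le_antisymm hle (Subgroup.subgroupOf_eq_top.1 h1)

/-- distinct simple normal subgroups commute -/
theorem Fac.comm {V : Subgroup G} {K K' : Subgroup G} (h : Fac V K) (h' : Fac V K') (hne : K ≠ K') {k k' : G}
    (hk : k ∈ K) (hk' : k' ∈ K') : k * k' = k' * k := by
  have hn : ((K ⊓ K').subgroupOf K).Normal := by
    constructor
    intro n hn g
    rw [Subgroup.mem_subgroupOf] at hn ⊢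
    exact ⟨h.norm _ (h.le g.2) _ hn.1, h'.norm _ (h.le g.2) _ hn.2⟩
  have := h.simple
  rcases hn.eq_bot_or_eq_top with h1 | h1
  · have h2 : k * k' * k⁻¹ * k'⁻¹ ∈ K ⊓ K' := by
      refine ⟨?_, ?_⟩
      · have h3 := h.norm k' (h'.le hk') _ (inv_mem hk)
        have h4 : k * k' * k⁻¹ * k'⁻¹ = k * (k' * k⁻¹ * k'⁻¹) := by group
        rw [h4]
        exact K.mul_mem hk h3
      · exact K'.mul_mem (h'.norm k (h.le hk) _ hk') (K'.inv_mem hk')
    have h3 : (⟨k * k' * k⁻¹ * k'⁻¹, h2.1⟩ : K) ∈ (K ⊓ K').subgroupOf K := h2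
    rw [h1, Subgroup.mem_bot] at h3
    have h4 : k * k' * k⁻¹ * k'⁻¹ = 1 := congrArg Subtype.val h3
    rw [mul_inv_eq_one, mul_inv_eq_iff_eq_mul] at h4
    exact h4
  · exact absurd (h.eq_of_le h' fun a ha => ((Subgroup.subgroupOf_eq_top.1 h1) ha).2) hne

/-- the automorphism of `L` induced by `g` -/
def autOf (L : Subgroup G) (g : G) (h : cj g L = L) : MulAut L where
  toFun l := ⟨g * l * g⁻¹, by have h1 := conj_mem_cj (g := g) l.2; rwa [h] at h1⟩
  invFun l := ⟨g⁻¹ * l * g, by rw [← mem_cj, h]; exact l.2⟩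
  left_inv l := Subtype.ext (by show g⁻¹ * (g * l * g⁻¹) * g = l; group)
  right_inv l := Subtype.ext (by show g * (g⁻¹ * l * g) * g⁻¹ = l; group)
  map_mul' a b := Subtype.ext (by show g * (a * b) * g⁻¹ = g * a * g⁻¹ * (g * b * g⁻¹); group)

theorem coe_autOf (L : Subgroup G) (g : G) (h : cj g L = L) (l : L) : (autOf L g h l : G) = g * l * g⁻¹ := rfl

/-- the auxiliary property of `(K, g)` : `(K, g ^ m)` is isomorphic to `(L, α)` -/
def Q (L : Subgroup G) (m : ℕ) (α : MulAut L) (K : Subgroup G) (g : G) : Prop :=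
  ∃ θ : L ≃* K, ∀ l : L, g ^ m * θ l * (g ^ m)⁻¹ = θ (α l)

theorem Q.conj {L : Subgroup G} {m : ℕ} {α : MulAut L} {K : Subgroup G} {g : G} (h : Q L m α K g) (c : G) :
    Q L m α (cj c K) (c * g * c⁻¹) := by
  obtain ⟨θ, hθ⟩ := h
  refine ⟨θ.trans (cjEquiv c K), fun l => ?_⟩
  rw [MulEquiv.trans_apply, MulEquiv.trans_apply, coe_cjEquiv, coe_cjEquiv, ← hθ, conj_pow]
  group

/-- the number of simple normal subgroups with property `Q` -/
noncomputable def num (V L : Subgroup G) (m : ℕ) (α : MulAut L) (g : G) : ℕ :=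
  Nat.card {K : Subgroup G // Fac V K ∧ Q L m α K g}

theorem num_conj (V L : Subgroup G) [V.Normal] (m : ℕ) (α : MulAut L) {g g' : G} (h : IsConj g g') :
    num V L m α g = num V L m α g' := by
  obtain ⟨c, hc⟩ := isConj_iff.1 h
  refine Nat.card_congr ⟨fun K => ⟨cj c K.1, K.2.1.cj c, ?_⟩, fun K => ⟨cj c⁻¹ K.1, K.2.1.cj c⁻¹, ?_⟩, fun K => ?_,
    fun K => ?_⟩
  · rw [← hc]
    exact K.2.2.conj c
  · have h1 : g = c⁻¹ * g' * c⁻¹⁻¹ := by rw [← hc]; group
    rw [h1]
    exact K.2.2.conj c⁻¹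
  · apply Subtype.ext
    show cj c⁻¹ (cj c K.1) = K.1
    rw [← cj_mul, inv_mul_cancel, cj_one]
  · apply Subtype.ext
    show cj c (cj c⁻¹ K.1) = K.1
    rw [← cj_mul, mul_inv_cancel, cj_one]

/-- `(x s) ^ i = x ^ i * w i` -/
def w (x s : G) : ℕ → G
  | 0 => 1
  | i + 1 => x⁻¹ * w x s i * x * s

theorem pow_eq (x s : G) (i : ℕ) : (x * s) ^ i = x ^ i * w x s i := by
  induction i with
  | zero => rw [pow_zero, pow_zero, w, mul_one]
  | succ i ih =>
    rw [pow_succ, ih, pow_succ, w]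
    group

theorem w_mem {V : Subgroup G} [V.Normal] {x s : G} (hs : s ∈ V) (i : ℕ) : w x s i ∈ V := by
  induction i with
  | zero => exact one_mem _
  | succ i ih =>
    rw [w]
    have h2 := (inferInstance : V.Normal).conj_mem _ ih x⁻¹
    rw [inv_inv] at h2
    exact mul_mem h2 hs

variable {V L : Subgroup G} [V.Normal] {x s : G}

theorem cj_x_of_orbit [Finite G] {K : Subgroup G} (hK : ∀ j : ℕ, K ≠ cj (x ^ j) L) (j : ℕ) : cj x K ≠ cj (x ^ j) L := by
  intro h
  apply hK (orderOf x - 1 + j)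
  have h1 : 0 < orderOf x := orderOf_pos x
  have h2 : cj x⁻¹ (cj x K) = cj x⁻¹ (cj (x ^ j) L) := by rw [h]
  rw [← cj_mul, inv_mul_cancel, cj_one, ← cj_mul] at h2
  have h3 : x⁻¹ = x ^ (orderOf x - 1) := by
    rw [inv_eq_iff_mul_eq_one, ← pow_succ', Nat.sub_add_cancel h1, pow_orderOf_eq_one]
  rw [h2, pow_add, ← h3]

theorem w_comm_far [Finite G] (hL : Fac V L) (hs : s ∈ L) (i : ℕ) :
    ∀ K : Subgroup G, Fac V K → (∀ j : ℕ, K ≠ cj (x ^ j) L) → ∀ k ∈ K, w x s i * k = k * w x s i := by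
  induction i with
  | zero => intro K _ _ k _; rw [w, one_mul, mul_one]
  | succ i ih =>
    intro K hK hKj k hk
    have h1 := ih (cj x K) (hK.cj x) (cj_x_of_orbit hKj) (x * k * x⁻¹) (conj_mem_cj hk)
    have hne : L ≠ K := by
      intro h
      apply hKj 0
      rw [pow_zero, cj_one, h]
    have h2 : s * k = k * s := hL.comm hK hne hs hk
    rw [w]
    calc x⁻¹ * w x s i * x * s * k = x⁻¹ * w x s i * x * (s * k) := by group
      _ = x⁻¹ * (w x s i * (x * k * x⁻¹)) * x * s := by rw [h2]; group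
      _ = k * (x⁻¹ * w x s i * x * s) := by rw [h1]; group

theorem w_comm_near (hL : Fac V L) (hs : s ∈ L) {m : ℕ} (hm : ∀ k, 1 ≤ k → k < m → cj (x ^ k) L ≠ L) (i : ℕ) :
    ∀ k : ℕ, 1 ≤ k → k + i ≤ m → ∀ y ∈ cj (x ^ k) L, w x s i * y = y * w x s i := by
  induction i with
  | zero => intro k _ _ y _; rw [w, one_mul, mul_one]
  | succ i ih =>
    intro k hk hkm y hy
    have h1 : x * y * x⁻¹ ∈ cj (x ^ (k + 1)) L := by
      rw [pow_succ', cj_mul]
      exact conj_mem_cj hy
    have h2 := ih (k + 1) (by omega) (by omega) _ h1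
    have h3 : s * y = y * s := hL.comm (hL.cj _) (hm k hk (by omega)).symm hs hy
    rw [w]
    calc x⁻¹ * w x s i * x * s * y = x⁻¹ * w x s i * x * (s * y) := by group
      _ = x⁻¹ * (w x s i * (x * y * x⁻¹)) * x * s := by rw [h3]; group
      _ = y * (x⁻¹ * w x s i * x * s) := by rw [h2]; group

/-- **The reduction to automorphism groups of simple groups.** -/
theorem exists_aut [Finite G] (hx : ∀ v ∈ V, IsConj x (x * v)) (hL : Fac V L) :
    ∃ α : MulAut L, ∀ s : L, IsConj α (α * MulAut.conj s) := by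
  classical
  have hex : ∃ m : ℕ, 1 ≤ m ∧ cj (x ^ m) L = L :=
    ⟨orderOf x, orderOf_pos x, by rw [pow_orderOf_eq_one, cj_one]⟩
  obtain ⟨hm1, hmL⟩ := Nat.find_spec hex
  have hmin : ∀ k, 1 ≤ k → k < Nat.find hex → cj (x ^ k) L ≠ L := fun k hk hkm h => Nat.find_min hex hkm ⟨hk, h⟩
  set m := Nat.find hex with hm
  refine ⟨autOf L (x ^ m) hmL, fun s => ?_⟩
  set α := autOf L (x ^ m) hmL with hα
  have hsV : (s : G) ∈ V := hL.le s.2
  -- `Q L` holds for `x`
  have hQx : Q L m α L x := ⟨MulEquiv.refl L, fun l => rfl⟩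
  -- the main claim
  have hQ : Q L m α L (x * s) := by
    by_contra hcon
    have h1 : num V L m α x = num V L m α (x * s) := num_conj V L m α (hx s hsV)
    have hsub : {K : Subgroup G | Fac V K ∧ Q L m α K (x * s)} ⊂ {K : Subgroup G | Fac V K ∧ Q L m α K x} := by
      rw [Set.ssubset_iff_of_subset]
      · exact ⟨L, ⟨hL, hQx⟩, fun h => hcon h.2⟩
      · rintro K ⟨hK, hKQ⟩
        refine ⟨hK, ?_⟩
        by_cases horb : ∃ j : ℕ, K = cj (x ^ j) L
        · exfalso
          obtain ⟨j, hj⟩ := horb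
          apply hcon
          have h2 : cj ((x * s) ^ j) L = K := by
            rw [pow_eq, cj_mul, hj]
            congr 1
            ext y
            rw [mem_cj]
            have hw := w_mem (V := V) (x := x) hsV j
            constructor
            · intro hy
              have := hL.norm _ hw _ hy
              have h3 : w x s j * ((w x s j)⁻¹ * y * w x s j) * (w x s j)⁻¹ = y := by group
              rwa [h3] at this
            · intro hy
              have := hL.norm _ (inv_mem hw) _ hy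
              rwa [inv_inv] at this
          have h3 := hKQ.conj ((x * s) ^ j)⁻¹
          have h4 : cj ((x * s) ^ j)⁻¹ K = L := by
            rw [← h2, ← cj_mul, inv_mul_cancel, cj_one]
          have h5 : ((x * s) ^ j)⁻¹ * (x * s) * (((x * s) ^ j)⁻¹)⁻¹ = x * s := by
            have : Commute (x * (s : G)) ((x * s) ^ j) := Commute.self_pow _ _
            rw [inv_inv, mul_assoc, this.eq]
            group
          rwa [h4, h5] at h3
        · push Not at horb
          obtain ⟨θ, hθ⟩ := hKQ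
          refine ⟨θ, fun l => ?_⟩
          rw [← hθ l, pow_eq]
          have h2 := w_comm_far (x := x) hL s.2 m K hK horb _ (θ l).2
          have h3 : x ^ m * w x s m * (θ l : G) * (x ^ m * w x s m)⁻¹ =
              x ^ m * (w x s m * (θ l : G)) * (w x s m)⁻¹ * (x ^ m)⁻¹ := by group
          rw [h3, h2]
          group
    have hlt := Set.ncard_lt_ncard hsub (Set.toFinite _)
    have h2 : Set.ncard {K : Subgroup G | Fac V K ∧ Q L m α K (x * s)} = num V L m α (x * s) := rfl
    have h3 : Set.ncard {K : Subgroup G | Fac V K ∧ Q L m α K x} = num V L m α x := rfl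
    rw [h2, h3, h1] at hlt
    exact lt_irrefl _ hlt
  obtain ⟨θ, hθ⟩ := hQ
  rw [isConj_iff]
  refine ⟨θ, ?_⟩
  rw [mul_inv_eq_iff_eq_mul]
  ext l
  have h1 := hθ l
  show (θ (α l) : G) = α (MulAut.conj s (θ l))
  rw [← h1, pow_eq, hα, coe_autOf]
  obtain ⟨i, hi⟩ : ∃ i, m = i + 1 := ⟨m - 1, by omega⟩
  have h2 : w x (s : G) m = x⁻¹ * w x s i * x * s := by rw [hi, w]
  have h3 : ∀ y ∈ L, x⁻¹ * w x s i * x * y = y * (x⁻¹ * w x s i * x) := by
    intro y hy
    have h4 : x * y * x⁻¹ ∈ cj (x ^ 1) L := by rw [pow_one]; exact conj_mem_cj hy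
    have h5 := w_comm_near (x := x) hL s.2 hmin i 1 le_rfl (by omega) _ h4
    calc x⁻¹ * w x s i * x * y = x⁻¹ * (w x s i * (x * y * x⁻¹)) * x := by group
      _ = y * (x⁻¹ * w x s i * x) := by rw [h5]; group
  have h6 : ((MulAut.conj s (θ l) : L) : G) = s * θ l * (s : G)⁻¹ := rfl
  rw [h6, h2]
  set u := x⁻¹ * w x s i * x with hu
  have h7 := h3 _ (mul_mem (mul_mem s.2 (θ l).2) (inv_mem s.2))
  calc x ^ m * (u * s) * (θ l : G) * (x ^ m * (u * s))⁻¹
      = x ^ m * (u * (s * θ l * (s : G)⁻¹)) * u⁻¹ * (x ^ m)⁻¹ := by group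
    _ = x ^ m * (s * θ l * (s : G)⁻¹) * (x ^ m)⁻¹ := by rw [h7]; group

end Cfsg.Agent.H498.CosetRed
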