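import Mathlib
import Cfsg.Agent.FixBN.OfBN
import Cfsg.Agent.S0320
import Cfsg.Agent.H498.CosetFix
import Cfsg.Agent.H498.CosetRed

/-!
# Opposite Sylow subgroups of a group with a split (B, N)-pair

* `opp_of_hasSplit` : in a finite group with a split (B, N)-pair of characteristic `p` the pairs of Sylow
  `p`-subgroups with trivial intersection are all conjugate (and there are some);
* `free_of_opp` : such a group has no automorphism `α` with all the elements of `α Inn` conjugate to `α`.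
-/

set_option autoImplicit false

namespace Cfsg.Agent.H498.SplitOpp

open Cfsg Cfsg.Agent.Tits.Core Cfsg.Agent.Tits.Core.Bldg Cfsg.Agent.Tits.OfBN Cfsg.Agent.FixBN
  Cfsg.Agent.FixBN.OfBN Cfsg.Agent.Schreier.BNSch Cfsg.Agent.Tits.OppRes Cfsg.Agent.LieExceptional.BNPairCore

/-- The pairs of Sylow `p`-subgroups with trivial intersection are all conjugate, and there is one. -/
def OppTrans (p : ℕ) (K : Type*) [Group K] : Prop :=
  ∃ P Q : Sylow p K, (P : Subgroup K) ⊓ Q = ⊥ ∧ (P : Subgroup K) ≠ ⊥ ∧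
    ∀ P' Q' : Sylow p K, (P' : Subgroup K) ⊓ Q' = ⊥ → ∃ g : K, g • P = P' ∧ g • Q = Q'

section

variable {K : Type*} [Group K] {P : Cfsg.BNPair K} {p : ℕ} {U : Subgroup K}
variable [hN : ((P.B ⊓ P.N).subgroupOf P.N).Normal]
variable {I : Type*} {M : CoxeterMatrix I} (e : I ≃ P.S) (cs : CoxeterSystem M (WP P))
  (hcs : ∀ i, cs.simple i = QuotientGroup.mk (⟨(e i : K), P.subset (e i).2⟩ : P.N))
variable (S : Split P p U)

include S

omit hN S in
theorem card_UU (x y : K ⧸ P.B) : Nat.card (UU P U x) = Nat.card (UU P U y) := by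
  have h : ∀ z : K ⧸ P.B, Nat.card (UU P U z) = Nat.card U := fun z =>
    Nat.card_congr (U.equivMapOfInjective (MulAut.conj z.out).toMonoidHom (MulAut.conj z.out).injective).symm.toEquiv
  rw [h, h]

/-- chambers whose Sylow subgroups intersect trivially are opposite -/
theorem opp_of_inf [Finite K] [hp : Fact p.Prime] {x y : K ⧸ P.B} (h : UU P U x ⊓ UU P U y = ⊥) :
    (bldg P e cs hcs).Opp x y := by
  have hI : Finite I := OfBN.finite_I e
  have hC : Cox cs := inferInstance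
  set Δ := bldg P e cs hcs with hΔ
  have hiso : ∀ (g : K) (a b : K ⧸ P.B), Δ.δ (g • a) (g • b) = Δ.δ a b := fun g a b => dist_smul P g a b
  show Δ.δ x y = wJ cs Set.univ
  by_contra hne
  have hex : ∃ i, cs.length (Δ.δ x y) < cs.length (Δ.δ x y * cs.simple i) := by
    by_contra hcon
    push Not at hcon
    apply hne
    refine hC.eq_wJ_of_descents (by rw [WJ_univ]; trivial) fun j _ => ?_
    have h1 := hcon j
    have h2 := cs.length_mul_simple_ne (Δ.δ x y) j
    omega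
  obtain ⟨i, hi⟩ := hex
  obtain ⟨z, z', hzz, hz, hz'⟩ := thick P e cs hcs y i
  have h1 : Δ.δ x z = Δ.δ x y * cs.simple i := Δ.step_lt x y z i hz hi
  have h2 : Δ.δ x z' = Δ.δ x y * cs.simple i := Δ.step_lt x y z' i hz' hi
  obtain ⟨u, hu, huz⟩ := OfBN.trans S (x := x) (y := z) (z := z') (by
    show Δ.δ x z = Δ.δ x z'
    rw [h1, h2])
  have hux : u • x = x := OfBN.fix S hu
  have huy : u • y = y := by
    refine Tits.Rigid.eq_of_short (Δ := Δ) (x := x) (w := Δ.δ x y) (j := i) ?_ rfl hi ?_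
    · conv_lhs => rw [← hux]
      exact hiso u x y
    · have h3 : Δ.δ (u • y) z' = cs.simple i := by
        rw [← huz, hiso]
        exact hz
      have h4 : z' ∈ Δ.Pan i (u • y) := Or.inr h3
      have h5 : z' ∈ Δ.Pan i y := Or.inr hz'
      exact Tits.Rigid.mem_Pan_Res (Δ.mem_Pan_trans h4 (Δ.mem_Pan_symm h5))
  have huU : u ∈ UU P U y := by
    have h3 : IsPGroup p (Subgroup.zpowers u) := by
      refine (OfBN.isP S x).to_le ?_
      rw [Subgroup.zpowers_le]
      exact hu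
    refine OfBN.max S y (Subgroup.zpowers u) h3 ?_ (Subgroup.mem_zpowers u)
    intro v hv
    obtain ⟨k, rfl⟩ := Subgroup.mem_zpowers_iff.1 hv
    have h4 : u ∈ MulAction.stabilizer K y := huy
    exact zpow_mem h4 k
  have hu1 : u = 1 := by
    have h3 : u ∈ UU P U x ⊓ UU P U y := ⟨hu, huU⟩
    rwa [h, Subgroup.mem_bot] at h3
  apply hzz
  rw [← huz, hu1, one_smul]

/-- the Sylow subgroup of a chamber -/
noncomputable def syl [Finite K] [hp : Fact p.Prime] (x : K ⧸ P.B) : Sylow p K where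
  toSubgroup := UU P U x
  isPGroup' := OfBN.isP S x
  is_maximal' := by
    intro Q hQ hle
    obtain ⟨y, hy⟩ := OfBN.exists_fix S Q hQ
    have h1 := OfBN.max S y Q hQ hy
    have h2 : UU P U x = UU P U y :=
      Subgroup.eq_of_le_of_card_ge (hle.trans h1) (le_of_eq (card_UU y x))
    exact le_antisymm (h1.trans h2.symm.le) hle

theorem exists_syl [Finite K] [hp : Fact p.Prime] (Q : Sylow p K) : ∃ x : K ⧸ P.B, syl S x = Q := by
  obtain ⟨y, hy⟩ := OfBN.exists_fix S Q Q.isPGroup'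
  have h1 := OfBN.max S y Q Q.isPGroup' hy
  refine ⟨y, ?_⟩
  apply Sylow.ext
  exact Q.is_maximal' (OfBN.isP S y) h1

theorem smul_syl [Finite K] [hp : Fact p.Prime] (g : K) (x : K ⧸ P.B) : g • syl S x = syl S (g • x) := by
  apply Sylow.ext
  rw [Sylow.coe_subgroup_smul]
  ext u
  rw [Subgroup.mem_pointwise_smul_iff_inv_smul_mem]
  have h1 := smul_UU S (x := x) (u := g⁻¹ * u * g) (g := g)
  have h2 : g * (g⁻¹ * u * g) * g⁻¹ = u := by group
  rw [h2] at h1
  have h3 : (MulAut.conj g)⁻¹ • u = g⁻¹ * u * g := by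
    rw [← map_inv]
    show g⁻¹ * u * g⁻¹⁻¹ = _
    rw [inv_inv]
  rw [h3]
  exact h1.symm

end

/-- **Opposite Sylow subgroups of a group with a split (B, N)-pair.** -/
theorem opp_of_hasSplit {K : Type*} [Group K] [Finite K] {p : ℕ} [hp : Fact p.Prime] (h : HasSplit p K) :
    OppTrans p K := by
  obtain ⟨P, U, hne, S⟩ := h
  have hN : ((P.B ⊓ P.N).subgroupOf P.N).Normal := normal_subgroupOf P
  obtain ⟨M, cs, hcs⟩ := S0320.result P
  have hI : Finite P.S := OfBN.finite_I (Equiv.refl P.S)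
  set Δ := bldg P (Equiv.refl P.S) cs hcs with hΔ
  obtain ⟨y, hy⟩ := exists_delta Δ (QuotientGroup.mk 1 : K ⧸ P.B) (w0 cs)
  have hinf : ∀ a b : K ⧸ P.B, Δ.Opp a b → UU P U a ⊓ UU P U b = ⊥ := by
    intro a b hab
    rw [eq_bot_iff]
    rintro u ⟨hu1, hu2⟩
    exact Subgroup.mem_bot.2 (OfBN.free (Equiv.refl P.S) cs hcs S hab hu1 (OfBN.fix S hu2))
  refine ⟨syl S (QuotientGroup.mk 1), syl S y, hinf _ _ hy, ?_, ?_⟩
  · obtain ⟨s, hs⟩ := hne
    obtain ⟨V, hV⟩ := S.node s hs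
    obtain ⟨u, hu, huV⟩ := hV.ne
    intro h1
    apply huV
    have h2 : u ∈ UU P U (QuotientGroup.mk (1 : K)) := by
      rw [OfBN.mem_UU S]
      simpa using hu
    have h3 : u ∈ ((syl S (QuotientGroup.mk 1 : K ⧸ P.B) : Sylow p K) : Subgroup K) := h2
    rw [h1, Subgroup.mem_bot] at h3
    rw [h3]
    exact one_mem _
  · intro P' Q' hPQ
    obtain ⟨a, rfl⟩ := exists_syl S P'
    obtain ⟨b, rfl⟩ := exists_syl S Q'
    have h1 : Δ.Opp a b := opp_of_inf (Equiv.refl P.S) cs hcs S hPQ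
    obtain ⟨g, hg1, hg2⟩ := Tits.OfBN.trans P (QuotientGroup.mk 1) y a b (by
      show Δ.δ _ y = Δ.δ a b
      rw [hy, h1])
    exact ⟨g, by rw [smul_syl, hg1], by rw [smul_syl, hg2]⟩

/-- **Groups with `OppTrans` have no coset of `Inn` inside a class of `Aut`.** -/
theorem free_of_opp {K : Type*} [Group K] [Finite K] {p : ℕ} [hp : Fact p.Prime] (h : OppTrans p K) :
    ¬ ∃ α : MulAut K, ∀ s : K, IsConj α (α * MulAut.conj s) := by
  rintro ⟨α, hα⟩
  obtain ⟨P, Q, hPQ, hP, htr⟩ := h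
  have hcoset : ∀ n ∈ (MulAut.conj : K →* MulAut K).range, IsConj α (α * n) := by
    rintro _ ⟨s, rfl⟩
    exact hα s
  -- the action on the Sylow subgroups
  have htr1 : ∀ a b : Sylow p K, ∃ n ∈ (MulAut.conj : K →* MulAut K).range, n • a = b := by
    intro a b
    obtain ⟨g, hg⟩ := MulAction.exists_smul_eq K a b
    exact ⟨MulAut.conj g, ⟨g, rfl⟩, hg⟩
  obtain ⟨A, hA1, hA2⟩ := CosetFix.existsUnique_fixed (Ω := Sylow p K) _ htr1 hcoset
  -- the action on the opposite pairs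
  let Ω : SubMulAction (MulAut K) (Sylow p K × Sylow p K) :=
    { carrier := {t | (t.1 : Subgroup K) ⊓ (t.2 : Subgroup K) = ⊥}
      smul_mem' := by
        intro c t ht
        show ((c • t.1 : Sylow p K) : Subgroup K) ⊓ ((c • t.2 : Sylow p K) : Subgroup K) = ⊥
        have ht' : (t.1 : Subgroup K) ⊓ (t.2 : Subgroup K) = ⊥ := ht
        rw [Sylow.pointwise_smul_def, Sylow.pointwise_smul_def]
        rw [← Subgroup.smul_inf, ht', Subgroup.smul_bot] }
  have hne : Nonempty Ω := ⟨⟨(P, Q), hPQ⟩⟩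
  have htr2 : ∀ a b : Ω, ∃ n ∈ (MulAut.conj : K →* MulAut K).range, n • a = b := by
    have key : ∀ a : Ω, ∃ g : K, MulAut.conj g • (⟨(P, Q), hPQ⟩ : Ω) = a := by
      intro a
      obtain ⟨g, hg1, hg2⟩ := htr a.1.1 a.1.2 a.2
      refine ⟨g, Subtype.ext (Prod.ext ?_ ?_)⟩
      · exact hg1
      · exact hg2
    intro a b
    obtain ⟨g, hg⟩ := key a
    obtain ⟨k, hk⟩ := key b
    refine ⟨MulAut.conj (k * g⁻¹), ⟨_, rfl⟩, ?_⟩
    rw [← hg, ← hk, smul_smul, ← map_mul, inv_mul_cancel_right]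
  obtain ⟨ω, hω, -⟩ := CosetFix.existsUnique_fixed (Ω := Ω) _ htr2 hcoset
  have h1 : α • ω.1.1 = ω.1.1 := congrArg (fun t : Ω => t.1.1) hω
  have h2 : α • ω.1.2 = ω.1.2 := congrArg (fun t : Ω => t.1.2) hω
  have h3 := hA2 _ h1
  have h4 := hA2 _ h2
  have h5 : ((ω.1.1 : Sylow p K) : Subgroup K) ⊓ (ω.1.2 : Subgroup K) = ⊥ := ω.2
  rw [h3, h4, inf_idem] at h5
  apply hP
  have h6 : Nat.card P = Nat.card A := by
    exact Nat.card_congr (Sylow.equiv P A).toEquiv
  have h7 : Nat.card A = 1 := by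
    show Nat.card (A : Subgroup K) = 1
    rw [h5, Subgroup.card_bot]
  rw [h7] at h6
  exact Subgroup.eq_bot_of_card_eq _ h6

end Cfsg.Agent.H498.SplitOpp
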