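import Mathlib
import Cfsg.Agent.Mrg.Omega.ML.LieRow.Lie
import Cfsg.Agent.H498.SplitOpp

/-!
# Simple groups of Lie type have a split (B, N)-pair in their characteristic
-/

set_option autoImplicit false

namespace Cfsg.Agent.H498.LieFree

open Cfsg Cfsg.Agent.FixBN Cfsg.Agent.Omega.ML.LieRow

/-- Every finite simple group of Lie type in characteristic `p` has a split (B,N)-pair of characteristic `p`. -/
theorem hasSplit_of_lieChar {p : ℕ} (hp : p.Prime) {G : Type*} [Group G] [Finite G] [IsSimpleGroup G]
    (h : IsLieTypeChar p G) : HasSplit p G := by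
  rcases Nodes.RGDLie.hasRGD_of_lie h with h1 | ⟨rfl, -⟩ | ⟨rfl, -⟩ | ⟨rfl, h1⟩
  · exact hasSplit_of_rgd hp h1
  · exact hasSplit_of_lie h
  · exact hasSplit_of_lie h
  · exact ReeSplit.hasSplit_of_isoRee h1

/-- **The pairs of Sylow `p`-subgroups with trivial intersection of a group of Lie type in characteristic `p`.** -/
theorem oppTrans_of_lieChar {p : ℕ} (hp : p.Prime) {G : Type*} [Group G] [Finite G] [IsSimpleGroup G]
    (h : IsLieTypeChar p G) : SplitOpp.OppTrans p G := by
  have : Fact p.Prime := ⟨hp⟩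
  exact SplitOpp.opp_of_hasSplit (hasSplit_of_lieChar hp h)

end Cfsg.Agent.H498.LieFree
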