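import Mathlib
import Cfsg.Agent.S0721
import Cfsg.Agent.H498.CosetFix

/-!
# Cosets of a normal subgroup contained in a conjugacy class: normal p-complements

Let `K` be a solvable normal subgroup of the finite group `G` and `x` a `p`-element with all the elements of `x K`
conjugate to `x`. Then `K` has a normal `p`-complement (`exists_complement`).
-/

set_option autoImplicit false

namespace Cfsg.Agent.H498.CosetC

open Cfsg.Agent.H498.CosetFix

variable {G : Type*} [Group G] [Finite G] {p : ℕ} [hp : Fact p.Prime]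

omit hp in
/-- A minimal normal subgroup which is solvable has prime power order. -/
theorem card_of_minimal (V : Subgroup G) [V.Normal] (hV : V ≠ ⊥)
    (hmin : ∀ M : Subgroup G, M.Normal → M ≤ V → M = ⊥ ∨ M = V) (hs : Group.IsSolvable V) :
    ∃ q m : ℕ, q.Prime ∧ 0 < m ∧ Nat.card V = q ^ m := by
  obtain ⟨T, hT, m, hsT, hm, ⟨e⟩⟩ := Cfsg.Agent.S0721.result V hV hmin
  have hinj : Function.Injective (fun t : T => (Pi.mulSingle (⟨0, hm⟩ : Fin m) t : Fin m → T)) :=
    fun a b h => by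
      have h1 := congrFun h (⟨0, hm⟩ : Fin m)
      simpa using h1
  have h1 : Group.IsSolvable T := by
    have : Group.IsSolvable (Fin m → T) :=
      Group.isSolvable_of_isSolvable_injective (f := e.symm.toMonoidHom) e.symm.injective
    exact Group.isSolvable_of_isSolvable_injective (f := MonoidHom.mulSingle (fun _ : Fin m => T) ⟨0, hm⟩) hinj
  have h2 : ∀ a b : T, a * b = b * a := IsSimpleGroup.comm_iff_isSolvable.2 h1
  have hTf : Finite T := by
    have : Finite (Fin m → T) := Finite.of_equiv _ e.toEquiv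
    exact Finite.of_injective _ hinj
  let cT : CommGroup T := { hT with mul_comm := h2 }
  refine ⟨Nat.card T, m, IsSimpleGroup.prime_card, hm, ?_⟩
  rw [Nat.card_congr e.toEquiv, Nat.card_fun, Nat.card_eq_fintype_card (α := Fin m), Fintype.card_fin]

/-- An element `x` of prime power order with exactly one fixed point on a set on which a normal `p`-subgroup `R` acts:
then `R` fixes this point. -/
theorem fixed_by_core {Ω : Type*} [MulAction G Ω] {x : G} (hxp : ∃ n : ℕ, x ^ p ^ n = 1) (R : Subgroup G) [R.Normal]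
    (hR : IsPGroup p R) {ω : Ω} (h1 : x • ω = ω) (h2 : ∀ b : Ω, x • b = b → b = ω) : ∀ r ∈ R, r • ω = ω := by
  have hX : IsPGroup p (Subgroup.zpowers x) := by
    obtain ⟨n, hn⟩ := hxp
    obtain ⟨k, _, hk⟩ := (Nat.dvd_prime_pow hp.1).1 (orderOf_dvd_of_pow_eq_one hn)
    exact IsPGroup.of_card (n := k) (by rw [Nat.card_zpowers, hk])
  have hT : IsPGroup p (R ⊔ Subgroup.zpowers x : Subgroup G) := hR.to_sup_of_normal_left hX
  set T := R ⊔ Subgroup.zpowers x with hTdef
  have hxT : x ∈ T := (le_sup_right : Subgroup.zpowers x ≤ T) (Subgroup.mem_zpowers x)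
  have : Group.IsNilpotent T := hT.isNilpotent
  set S : Subgroup T := (MulAction.stabilizer G ω).subgroupOf T with hS
  have htop : S = ⊤ := by
    by_contra hne
    have h3 := Group.normalizerCondition_of_isNilpotent (G := T) S (lt_top_iff_ne_top.2 hne)
    obtain ⟨t, ht, htS⟩ := SetLike.exists_of_lt h3
    apply htS
    have hxS : (⟨x, hxT⟩ : T) ∈ S := h1
    have h4 : t⁻¹ * (⟨x, hxT⟩ : T) * t ∈ S := by
      have h5 := (Subgroup.mem_normalizer_iff.1 (inv_mem ht) ⟨x, hxT⟩).1 hxS
      rwa [inv_inv] at h5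
    have h5 : ((t : G)⁻¹ * x * t) • ω = ω := h4
    have h6 : x • ((t : G) • ω) = (t : G) • ω := by
      rw [mul_assoc, mul_smul, inv_smul_eq_iff, mul_smul] at h5
      exact h5
    exact h2 _ h6
  intro r hr
  have h3 : (⟨r, (le_sup_left : R ≤ T) hr⟩ : T) ∈ S := by rw [htop]; trivial
  exact h3

/-- **No normal `p'`-subgroups: then `K` is a `p`-group.** -/
theorem isPGroup_of_core (K : Subgroup G) [K.Normal] (hK : Group.IsSolvable K) {x : G}
    (hxp : ∃ n : ℕ, x ^ p ^ n = 1) (hx : ∀ k ∈ K, IsConj x (x * k))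
    (hcore : ∀ L : Subgroup G, L.Normal → L ≤ K → (Nat.card L).Coprime p → L = ⊥) : IsPGroup p K := by
  classical
  -- the largest normal `p`-subgroup
  obtain ⟨R, ⟨hRn, hRK, hRp⟩, hRmax⟩ : ∃ R : Subgroup G, (R.Normal ∧ R ≤ K ∧ IsPGroup p R) ∧
      ∀ M : Subgroup G, (M.Normal ∧ M ≤ K ∧ IsPGroup p M) → R ≤ M → M ≤ R := by
    have hfin : ({R : Subgroup G | R.Normal ∧ R ≤ K ∧ IsPGroup p R}).Finite := Set.toFinite _
    obtain ⟨R, hR⟩ := hfin.exists_maximal ⟨⊥, inferInstance, bot_le, IsPGroup.of_bot⟩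
    exact ⟨R, hR.1, fun M hM hle => hR.2 hM hle⟩
  by_contra hcon
  have hne : R ≠ K := fun h => hcon (h ▸ hRp)
  set Kb : Subgroup (G ⧸ R) := K.map (QuotientGroup.mk' R) with hKb
  have hKbn : Kb.Normal := Subgroup.Normal.map inferInstance _ (QuotientGroup.mk'_surjective R)
  have hKb1 : Kb ≠ ⊥ := by
    intro h
    apply hne
    apply le_antisymm hRK
    intro k hk
    have h1 : QuotientGroup.mk' R k ∈ Kb := ⟨k, hk, rfl⟩
    rw [h, Subgroup.mem_bot] at h1
    exact (QuotientGroup.eq_one_iff k).1 h1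
  obtain ⟨V, ⟨hVn, hVK, hV⟩, hVmin⟩ : ∃ V : Subgroup (G ⧸ R), (V.Normal ∧ V ≤ Kb ∧ V ≠ ⊥) ∧
      ∀ M : Subgroup (G ⧸ R), (M.Normal ∧ M ≤ Kb ∧ M ≠ ⊥) → M ≤ V → V ≤ M := by
    have hfin : ({V : Subgroup (G ⧸ R) | V.Normal ∧ V ≤ Kb ∧ V ≠ ⊥}).Finite := Set.toFinite _
    obtain ⟨V, hV⟩ := hfin.exists_minimal ⟨Kb, hKbn, le_rfl, hKb1⟩
    exact ⟨V, hV.1, fun M hM hle => hV.2 hM hle⟩
  have hmin : ∀ M : Subgroup (G ⧸ R), M.Normal → M ≤ V → M = ⊥ ∨ M = V := by
    intro M hM hle
    by_cases h : M = ⊥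
    · exact Or.inl h
    · exact Or.inr (le_antisymm hle (hVmin M ⟨hM, hle.trans hVK, h⟩ hle))
  have hKbs : Group.IsSolvable Kb :=
    Group.isSolvable_of_surjective (f := (QuotientGroup.mk' R).subgroupMap K) (MonoidHom.subgroupMap_surjective _ _)
  have hVs : Group.IsSolvable V :=
    Group.isSolvable_of_isSolvable_injective (f := Subgroup.inclusion hVK) (Subgroup.inclusion_injective hVK)
  obtain ⟨q, m, hq, hm, hcV⟩ := card_of_minimal V hV hmin hVs
  have hqF : Fact q.Prime := ⟨hq⟩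
  set K₁ : Subgroup G := V.comap (QuotientGroup.mk' R) with hK₁
  have hK₁n : K₁.Normal := inferInstance
  have hRK₁ : R ≤ K₁ := by
    intro r hr
    show QuotientGroup.mk' R r ∈ V
    have : QuotientGroup.mk' R r = 1 := (QuotientGroup.eq_one_iff r).2 hr
    rw [this]
    exact one_mem _
  have hK₁K : K₁ ≤ K := by
    intro k hk
    obtain ⟨k', hk', he⟩ := hVK (show QuotientGroup.mk' R k ∈ V from hk)
    have h1 : k'⁻¹ * k ∈ R := QuotientGroup.eq.1 he
    have h2 : k = k' * (k'⁻¹ * k) := by group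
    rw [h2]
    exact mul_mem hk' (hRK h1)
  have hcK₁ : Nat.card K₁ = Nat.card R * q ^ m := by
    have h2 := Subgroup.card_mul_index (R.subgroupOf K₁)
    rw [Nat.card_congr (Subgroup.subgroupOfEquivOfLe hRK₁).toEquiv] at h2
    rw [← h2]
    congr 1
    have h4 : R.subgroupOf K₁ = ((QuotientGroup.mk' R).subgroupComap V).ker := by
      ext y
      rw [MonoidHom.mem_ker, Subgroup.mem_subgroupOf]
      rw [← Subtype.coe_inj]
      show (y : G) ∈ R ↔ (QuotientGroup.mk (y : G) : G ⧸ R) = 1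
      rw [QuotientGroup.eq_one_iff]
    rw [h4, Subgroup.index_ker, MonoidHom.range_eq_top.2
      (MonoidHom.subgroupComap_surjective_of_surjective _ _ (QuotientGroup.mk'_surjective R)), Subgroup.card_top, hcV]
  obtain ⟨a, hRa⟩ := IsPGroup.iff_card.1 hRp
  -- `q ≠ p`
  have hqp : q ≠ p := by
    rintro rfl
    have h1 : IsPGroup q K₁ := IsPGroup.of_card (n := a + m) (by rw [hcK₁, hRa, pow_add])
    have h2 := hRmax K₁ ⟨hK₁n, hK₁K, h1⟩ hRK₁
    have h3 : K₁ = R := le_antisymm h2 hRK₁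
    have h4 : 1 < q ^ m := Nat.one_lt_pow hm.ne' hq.one_lt
    have h5 : 0 < Nat.card R := Nat.card_pos
    rw [h3] at hcK₁
    nlinarith
  have hcop : (Nat.card R).Coprime (q ^ m) := by
    rw [hRa]
    exact Nat.Coprime.pow _ _ ((Nat.coprime_primes hp.1 hq).2 hqp.symm)
  -- the action on the Sylow subgroups of `K₁`
  have hconj : ∀ P Q : Sylow q K₁, ∃ n : K₁, MulAut.conj n • P = Q := fun P Q => MulAction.exists_smul_eq K₁ P Q
  have hnorm : ∀ (r : K₁) (P : Sylow q K₁), MulAut.conj r • P = P →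
      r ∈ Subgroup.normalizer ((P : Subgroup K₁) : Set K₁) := fun r P h => Sylow.smul_eq_iff_mem_normalizer.1 h
  let act : MulAction G (Sylow q K₁) := MulAction.compHom (Sylow q K₁) (MulAut.conjNormal : G →* MulAut K₁)
  have hact : ∀ (n : G) (hn : n ∈ K₁) (P : Sylow q K₁), n • P = MulAut.conj (⟨n, hn⟩ : K₁) • P := by
    intro n hn P
    rfl
  have htr : ∀ P Q : Sylow q K₁, ∃ n ∈ K₁, n • P = Q := by
    intro P Q
    obtain ⟨n, hn⟩ := hconj P Q
    exact ⟨n, n.2, by rw [hact n n.2]; exact hn⟩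
  obtain ⟨Q, hQ1, hQ2⟩ := existsUnique_fixed (Ω := Sylow q K₁) K₁ htr fun n hn => hx n (hK₁K hn)
  have hRQ := fixed_by_core hxp R hRp hQ1 hQ2
  -- `Q` is normal in `K₁`
  have hcQ : Nat.card Q = q ^ m := by
    have h1 := Q.card_eq_multiplicity
    rw [h1]
    congr 1
    rw [hcK₁, Nat.factorization_mul Nat.card_pos.ne' (pow_ne_zero _ hq.ne_zero), hRa, Nat.factorization_pow,
      Nat.factorization_pow, Finsupp.add_apply, Finsupp.smul_apply, Finsupp.smul_apply, hp.1.factorization,
      hq.factorization, Finsupp.single_eq_same, Finsupp.single_eq_of_ne hqp]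
    simp
  have hQn : (Q : Subgroup K₁).Normal := by
    rw [← Subgroup.normalizer_eq_top_iff]
    have h1 : R.subgroupOf K₁ ≤ Subgroup.normalizer ((Q : Subgroup K₁) : Set K₁) := by
      intro r hr
      apply hnorm
      have h2 := hRQ r.1 hr
      rwa [hact r.1 r.2] at h2
    have h2 : (Q : Subgroup K₁) ≤ Subgroup.normalizer ((Q : Subgroup K₁) : Set K₁) := Subgroup.le_normalizer
    have h3 : Nat.card R ∣ Nat.card (Subgroup.normalizer ((Q : Subgroup K₁) : Set K₁)) := by
      rw [← Nat.card_congr (Subgroup.subgroupOfEquivOfLe hRK₁).toEquiv]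
      exact Subgroup.card_dvd_of_le h1
    have h4 : q ^ m ∣ Nat.card (Subgroup.normalizer ((Q : Subgroup K₁) : Set K₁)) := by
      rw [← hcQ]
      exact Subgroup.card_dvd_of_le h2
    have h5 := hcop.mul_dvd_of_dvd_of_dvd h3 h4
    rw [← hcK₁] at h5
    exact Subgroup.eq_top_of_card_eq _ (Nat.dvd_antisymm (Subgroup.card_subgroup_dvd_card _) h5)
  have hQc : (Q : Subgroup K₁).Characteristic := Q.characteristic_of_normal hQn
  have h6 : ((Q : Subgroup K₁).map K₁.subtype).Normal := inferInstance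
  have h7 : Nat.card ((Q : Subgroup K₁).map K₁.subtype) = q ^ m := by
    rw [← hcQ]
    exact Nat.card_congr ((Q : Subgroup K₁).equivMapOfInjective K₁.subtype K₁.subtype_injective).symm.toEquiv
  have h8 := hcore _ h6 ((Subgroup.map_subtype_le _).trans hK₁K) (by
    rw [h7]
    exact Nat.Coprime.pow_left _ ((Nat.coprime_primes hq hp.1).2 hqp))
  rw [h8, Subgroup.card_bot] at h7
  have h9 : 1 < q ^ m := Nat.one_lt_pow hm.ne' hq.one_lt
  omega

/-- **The normal `p`-complement.** -/
theorem exists_complement (K : Subgroup G) [K.Normal] (hK : Group.IsSolvable K) {x : G}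
    (hxp : ∃ n : ℕ, x ^ p ^ n = 1) (hx : ∀ k ∈ K, IsConj x (x * k)) :
    ∃ L : Subgroup G, L.Normal ∧ L ≤ K ∧ (Nat.card L).Coprime p ∧ ∃ k : ℕ, L.relIndex K = p ^ k := by
  obtain ⟨L, ⟨hLn, hLK, hLp⟩, hLmax⟩ : ∃ L : Subgroup G, (L.Normal ∧ L ≤ K ∧ (Nat.card L).Coprime p) ∧
      ∀ M : Subgroup G, (M.Normal ∧ M ≤ K ∧ (Nat.card M).Coprime p) → L ≤ M → M ≤ L := by
    have hfin : ({L : Subgroup G | L.Normal ∧ L ≤ K ∧ (Nat.card L).Coprime p}).Finite := Set.toFinite _
    obtain ⟨R, hR⟩ := hfin.exists_maximal ⟨⊥, inferInstance, bot_le, by rw [Subgroup.card_bot]; exact Nat.coprime_one_left p⟩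
    exact ⟨R, hR.1, fun M hM hle => hR.2 hM hle⟩
  refine ⟨L, hLn, hLK, hLp, ?_⟩
  have hKbn : (K.map (QuotientGroup.mk' L)).Normal :=
    Subgroup.Normal.map inferInstance _ (QuotientGroup.mk'_surjective L)
  have hKbs : Group.IsSolvable (K.map (QuotientGroup.mk' L)) :=
    Group.isSolvable_of_surjective (f := (QuotientGroup.mk' L).subgroupMap K) (MonoidHom.subgroupMap_surjective _ _)
  have h1 := isPGroup_of_core (p := p) (K.map (QuotientGroup.mk' L)) hKbs (x := QuotientGroup.mk' L x) (by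
    obtain ⟨n, hn⟩ := hxp
    exact ⟨n, by rw [← map_pow, hn, map_one]⟩) (isConj_quotient hx L) (by
    intro M hM hMK hMp
    have h2 : (M.comap (QuotientGroup.mk' L)) ≤ L := by
      refine hLmax _ ⟨inferInstance, ?_, ?_⟩ ?_
      · intro k hk
        obtain ⟨k', hk', he⟩ := hMK (show QuotientGroup.mk' L k ∈ M from hk)
        have h1 : k'⁻¹ * k ∈ L := QuotientGroup.eq.1 he
        have h2 : k = k' * (k'⁻¹ * k) := by group
        rw [h2]
        exact mul_mem hk' (hLK h1)
      · have hLM : L ≤ M.comap (QuotientGroup.mk' L) := by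
          intro r hr
          show QuotientGroup.mk' L r ∈ M
          have : QuotientGroup.mk' L r = 1 := (QuotientGroup.eq_one_iff r).2 hr
          rw [this]
          exact one_mem _
        have h2 := Subgroup.card_mul_index (L.subgroupOf (M.comap (QuotientGroup.mk' L)))
        rw [Nat.card_congr (Subgroup.subgroupOfEquivOfLe hLM).toEquiv] at h2
        rw [← h2]
        have h4 : L.subgroupOf (M.comap (QuotientGroup.mk' L)) = ((QuotientGroup.mk' L).subgroupComap M).ker := by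
          ext y
          rw [MonoidHom.mem_ker, Subgroup.mem_subgroupOf]
          rw [← Subtype.coe_inj]
          show (y : G) ∈ L ↔ (QuotientGroup.mk (y : G) : G ⧸ L) = 1
          rw [QuotientGroup.eq_one_iff]
        rw [h4, Subgroup.index_ker, MonoidHom.range_eq_top.2
          (MonoidHom.subgroupComap_surjective_of_surjective _ _ (QuotientGroup.mk'_surjective L)), Subgroup.card_top]
        exact Nat.Coprime.mul_left hLp hMp
      · intro r hr
        show QuotientGroup.mk' L r ∈ M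
        have : QuotientGroup.mk' L r = 1 := (QuotientGroup.eq_one_iff r).2 hr
        rw [this]
        exact one_mem _
    rw [eq_bot_iff]
    intro y hy
    obtain ⟨g, rfl⟩ := QuotientGroup.mk'_surjective L y
    exact Subgroup.mem_bot.2 ((QuotientGroup.eq_one_iff g).2 (h2 hy)))
  obtain ⟨k, hk⟩ := IsPGroup.iff_card.1 h1
  refine ⟨k, ?_⟩
  rw [← hk]
  show (L.subgroupOf K).index = _
  have h4 : L.subgroupOf K = ((QuotientGroup.mk' L).subgroupMap K).ker := by
    ext y
    rw [MonoidHom.mem_ker, Subgroup.mem_subgroupOf]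
    rw [← Subtype.coe_inj]
    show (y : G) ∈ L ↔ (QuotientGroup.mk (y : G) : G ⧸ L) = 1
    rw [QuotientGroup.eq_one_iff]
  rw [h4, Subgroup.index_ker, MonoidHom.range_eq_top.2 (MonoidHom.subgroupMap_surjective _ _),
    Subgroup.card_top]

end Cfsg.Agent.H498.CosetC
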