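import Mathlib
import Cfsg.Agent.S0721
import Cfsg.Agent.H498.CosetFix
import Cfsg.Agent.H498.CosetRed

/-!
# Cosets of a normal subgroup contained in a conjugacy class: the normal subgroup is solvable

`solvable_of_coset` : if no finite simple non-abelian group `S` has an automorphism `α` with all the elements of
`α Inn(S)` conjugate to `α` in `Aut(S)` (`Free`), then `x N ⊆ x^G` implies that `N` is solvable.
-/

set_option autoImplicit false

namespace Cfsg.Agent.H498.CosetSolv

open Cfsg.Agent.H498.CosetFix Cfsg.Agent.H498.CosetRed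

universe u

/-- no coset of `Inn(S)` in `Aut(S)` is contained in a conjugacy class -/
def Free (S : Type u) [Group S] : Prop := ¬ ∃ α : MulAut S, ∀ s : S, IsConj α (α * MulAut.conj s)

theorem exists_fac {G : Type*} [Group G] [Finite G] (V : Subgroup G) [V.Normal] (hV : V ≠ ⊥)
    (hmin : ∀ M : Subgroup G, M.Normal → M ≤ V → M = ⊥ ∨ M = V) (hns : ¬ Group.IsSolvable V) :
    ∃ L : Subgroup G, Fac V L ∧ ¬ IsMulCommutative L := by
  classical
  obtain ⟨T, hT, m, hs, hm, ⟨e⟩⟩ := Cfsg.Agent.S0721.result V hV hmin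
  let i0 : Fin m := ⟨0, hm⟩
  let f : T →* G := V.subtype.comp (e.symm.toMonoidHom.comp (MonoidHom.mulSingle (fun _ : Fin m => T) i0))
  have hf : Function.Injective f := by
    intro a b hab
    have h1 : e.symm (Pi.mulSingle i0 a) = e.symm (Pi.mulSingle i0 b) := Subtype.ext hab
    exact Pi.mulSingle_injective i0 (e.symm.injective h1)
  have hmem : ∀ y : G, y ∈ f.range ↔ ∃ hy : y ∈ V, ∀ j, j ≠ i0 → e ⟨y, hy⟩ j = 1 := by
    intro y
    constructor
    · rintro ⟨t, rfl⟩
      refine ⟨(e.symm (Pi.mulSingle i0 t)).2, fun j hj => ?_⟩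
      have : e ⟨f t, (e.symm (Pi.mulSingle i0 t)).2⟩ = Pi.mulSingle i0 t := by
        show e (e.symm (Pi.mulSingle i0 t)) = _
        rw [MulEquiv.apply_symm_apply]
      rw [this, Pi.mulSingle_eq_of_ne hj]
    · rintro ⟨hy, h⟩
      refine ⟨e ⟨y, hy⟩ i0, ?_⟩
      have h1 : Pi.mulSingle i0 (e ⟨y, hy⟩ i0) = e ⟨y, hy⟩ := by
        ext j
        by_cases hj : j = i0
        · rw [hj, Pi.mulSingle_eq_same]
        · rw [Pi.mulSingle_eq_of_ne hj, h j hj]
      show ((e.symm (Pi.mulSingle i0 (e ⟨y, hy⟩ i0)) : V) : G) = y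
      rw [h1, MulEquiv.symm_apply_apply]
  have eL : T ≃* f.range := MonoidHom.ofInjective hf
  refine ⟨f.range, ⟨?_, ?_, ?_⟩, ?_⟩
  · rintro _ ⟨t, rfl⟩
    exact (e.symm (Pi.mulSingle i0 t)).2
  · intro v hv k hk
    rw [hmem] at hk ⊢
    obtain ⟨hk1, hk2⟩ := hk
    have hv' : v * k * v⁻¹ ∈ V := mul_mem (mul_mem hv hk1) (inv_mem hv)
    refine ⟨hv', fun j hj => ?_⟩
    have h1 : (⟨v * k * v⁻¹, hv'⟩ : V) = ⟨v, hv⟩ * ⟨k, hk1⟩ * ⟨v, hv⟩⁻¹ := rfl
    rw [h1, map_mul, map_mul, map_inv, Pi.mul_apply, Pi.mul_apply, Pi.inv_apply, hk2 j hj, mul_one, mul_inv_cancel]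
  · exact eL.symm.isSimpleGroup
  · intro hcom
    apply hns
    have h1 : ∀ a b : T, a * b = b * a := by
      intro a b
      apply eL.injective
      rw [map_mul, map_mul]
      exact hcom.is_comm.comm _ _
    have h2 : ∀ a b : V, a * b = b * a := by
      intro a b
      apply e.injective
      rw [map_mul, map_mul]
      ext j
      rw [Pi.mul_apply, Pi.mul_apply, h1]
    exact Group.isSolvable_of_comm h2

theorem solvable_aux (H : ∀ (S : Type u) [Group S] [Finite S] [IsSimpleGroup S], ¬ IsMulCommutative S → Free S)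
    (n : ℕ) : ∀ (G : Type u) [Group G] [Finite G] (N : Subgroup G) [N.Normal] (x : G),
      Nat.card N ≤ n → (∀ v ∈ N, IsConj x (x * v)) → Group.IsSolvable N := by
  induction n with
  | zero =>
    intro G _ _ N _ x hn _
    exact absurd hn (by have : 0 < Nat.card N := Nat.card_pos; omega)
  | succ n ih =>
    intro G _ _ N _ x hn hx
    by_cases hN : N = ⊥
    · subst hN
      exact Group.isSolvable_of_comm fun a b => Subsingleton.elim _ _
    -- a minimal normal subgroup below `N`
    obtain ⟨V, ⟨hVn, hVN, hV⟩, hVmin⟩ : ∃ V : Subgroup G, (V.Normal ∧ V ≤ N ∧ V ≠ ⊥) ∧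
        ∀ M : Subgroup G, (M.Normal ∧ M ≤ N ∧ M ≠ ⊥) → M ≤ V → V ≤ M := by
      have hfin : ({V : Subgroup G | V.Normal ∧ V ≤ N ∧ V ≠ ⊥}).Finite := Set.toFinite _
      obtain ⟨V, hV⟩ := hfin.exists_minimal ⟨N, inferInstance, le_rfl, hN⟩
      exact ⟨V, hV.1, fun M hM hle => hV.2 hM hle⟩
    have hmin : ∀ M : Subgroup G, M.Normal → M ≤ V → M = ⊥ ∨ M = V := by
      intro M hM hle
      by_cases h : M = ⊥
      · exact Or.inl h
      · exact Or.inr (le_antisymm hle (hVmin M ⟨hM, hle.trans hVN, h⟩ hle))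
    have hVs : Group.IsSolvable V := by
      by_contra hns
      obtain ⟨L, hL, hLc⟩ := exists_fac V hV hmin hns
      have := hL.simple
      exact H L hLc (exists_aut (fun v hv => hx v (hVN hv)) hL)
    -- the quotient
    have hcard : Nat.card (N.map (QuotientGroup.mk' V)) ≤ n := by
      have h1 : Nat.card (N.map (QuotientGroup.mk' V)) * Nat.card V = Nat.card N := by
        have h2 := Subgroup.card_mul_index (V.subgroupOf N)
        rw [Nat.card_congr (Subgroup.subgroupOfEquivOfLe hVN).toEquiv] at h2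
        have h3 : (V.subgroupOf N).index = Nat.card (N.map (QuotientGroup.mk' V)) := by
          have h4 : V.subgroupOf N = ((QuotientGroup.mk' V).subgroupMap N).ker := by
            ext y
            rw [MonoidHom.mem_ker, Subgroup.mem_subgroupOf]
            rw [← Subtype.coe_inj]
            show (y : G) ∈ V ↔ (QuotientGroup.mk (y : G) : G ⧸ V) = 1
            rw [QuotientGroup.eq_one_iff]
          rw [h4, Subgroup.index_ker, MonoidHom.range_eq_top.2 (MonoidHom.subgroupMap_surjective _ _),
            Subgroup.card_top]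
        rw [h3] at h2
        rw [mul_comm]
        exact h2
      have h5 : 2 ≤ Nat.card V := by
        have h6 : Nontrivial V := (Subgroup.nontrivial_iff_ne_bot V).2 hV
        exact Finite.one_lt_card
      have h7 : 0 < Nat.card (N.map (QuotientGroup.mk' V)) := Nat.card_pos
      nlinarith
    have hnor : (N.map (QuotientGroup.mk' V)).Normal :=
      Subgroup.Normal.map inferInstance _ (QuotientGroup.mk'_surjective V)
    have hq := ih (G ⧸ V) (N.map (QuotientGroup.mk' V)) (QuotientGroup.mk' V x) hcard (isConj_quotient hx V)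
    -- conclusion
    have h8 : Group.IsSolvable (V.subgroupOf N) :=
      Group.isSolvable_of_isSolvable_injective (f := (Subgroup.subgroupOfEquivOfLe hVN).toMonoidHom)
        (Subgroup.subgroupOfEquivOfLe hVN).injective
    exact Group.isSolvable_of_ker_le_range (V.subgroupOf N).subtype ((QuotientGroup.mk' V).subgroupMap N) (by
      intro y hy
      rw [MonoidHom.mem_ker, ← Subtype.coe_inj] at hy
      have h9 : (QuotientGroup.mk (y : G) : G ⧸ V) = 1 := hy
      rw [QuotientGroup.eq_one_iff] at h9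
      exact ⟨⟨y, h9⟩, rfl⟩)

/-- **If `x N ⊆ x^G` then `N` is solvable**, provided that all the simple groups are `Free`. -/
theorem solvable_of_coset
    (H : ∀ (S : Type u) [Group S] [Finite S] [IsSimpleGroup S], ¬ IsMulCommutative S → Free S)
    {G : Type u} [Group G] [Finite G] (N : Subgroup G) [N.Normal] (x : G) (hx : ∀ v ∈ N, IsConj x (x * v)) :
    Group.IsSolvable N :=
  solvable_aux H _ G N x le_rfl hx

end Cfsg.Agent.H498.CosetSolv
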