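import Mathlib

/-!
# Groups with `|Out| ≤ 2` have no coset of `Inn` inside a class of `Aut`
-/

set_option autoImplicit false

namespace Cfsg.Agent.H498.OutTwo

open Subgroup

theorem conj_injective {S : Type*} [Group S] (hc : center S = ⊥) :
    Function.Injective (MulAut.conj : S →* MulAut S) := by
  rw [injective_iff_map_eq_one]
  intro a ha
  have h1 : a ∈ center S := by
    rw [mem_center_iff]
    intro g
    have h2 : MulAut.conj a g = g := by rw [ha]; rfl
    rw [MulAut.conj_apply, mul_inv_eq_iff_eq_mul] at h2
    exact h2.symm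
  rwa [hc, mem_bot] at h1

/-- A finite group of order divisible by four has no element with centraliser of order at most two. -/
theorem card_centralizer_gt {A : Type*} [Group A] [Finite A] (h4 : 4 ∣ Nat.card A) {a : A} (ha : a ≠ 1) :
    2 < Nat.card (centralizer ({a} : Set A)) := by
  by_contra hle
  push Not at hle
  have haC : a ∈ centralizer ({a} : Set A) := mem_centralizer_singleton_iff.2 rfl
  have h1 : orderOf a ≤ 2 := by
    have h2 : orderOf a ∣ Nat.card (centralizer ({a} : Set A)) := by
      have := orderOf_dvd_natCard (⟨a, haC⟩ : centralizer ({a} : Set A))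
      rwa [Subgroup.orderOf_mk] at this
    exact (Nat.le_of_dvd Nat.card_pos h2).trans hle
  have h2 : orderOf a = 2 := by
    have h3 : orderOf a ≠ 1 := fun h => ha (orderOf_eq_one_iff.1 h)
    have h4 : 0 < orderOf a := orderOf_pos a
    omega
  have h2F : Fact (Nat.Prime 2) := ⟨Nat.prime_two⟩
  -- elements of the centraliser
  have h3 : ∀ z ∈ centralizer ({a} : Set A), z = 1 ∨ z = a := by
    intro z hz
    by_contra hcon
    push Not at hcon
    have h4 : 3 ≤ Nat.card (centralizer ({a} : Set A)) := by
      have h5 : ({1, a, z} : Set A).ncard = 3 := Set.ncard_eq_three.2 ⟨1, a, z, ha.symm, hcon.1.symm, hcon.2.symm, rfl⟩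
      have h6 : ({1, a, z} : Set A) ⊆ (centralizer ({a} : Set A) : Set A) := by
        intro y hy
        rcases hy with rfl | rfl | rfl
        · exact one_mem _
        · exact haC
        · exact hz
      have h7 := Set.ncard_le_ncard h6 (Set.toFinite _)
      rw [h5] at h7
      exact h7
    omega
  obtain ⟨P, hP⟩ := (IsPGroup.of_card (p := 2) (n := 1) (by rw [Nat.card_zpowers, h2, pow_one]) :
    IsPGroup 2 (zpowers a)).exists_le_sylow
  have haP : a ∈ (P : Subgroup A) := hP (mem_zpowers a)
  have hPc : 4 ∣ Nat.card P := by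
    have h5 := P.pow_dvd_card_of_pow_dvd_card (n := 2) (by norm_num; exact h4)
    norm_num at h5
    exact h5
  have : Nontrivial P := ⟨⟨a, haP⟩, 1, fun h => ha (congrArg Subtype.val h)⟩
  have hZ := P.isPGroup'.center_nontrivial
  obtain ⟨z, hz⟩ := exists_ne (1 : center P)
  have h5 : (z : P).1 ∈ centralizer ({a} : Set A) := by
    rw [mem_centralizer_singleton_iff]
    have h6 := mem_center_iff.1 z.2 ⟨a, haP⟩
    have h7 := congrArg Subtype.val h6
    exact h7.symm
  rcases h3 _ h5 with h6 | h6
  · exact hz (Subtype.ext (Subtype.ext h6))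
  · have h7 : (P : Subgroup A) ≤ centralizer ({a} : Set A) := by
      intro y hy
      rw [mem_centralizer_singleton_iff]
      have h8 := mem_center_iff.1 z.2 ⟨y, hy⟩
      have h9 := congrArg Subtype.val h8
      rw [← h6]
      exact h9
    have h8 := Subgroup.card_le_of_le h7
    have h9 := Nat.le_of_dvd Nat.card_pos hPc
    omega

/-- **`|Out(S)| ≤ 2`: no coset of `Inn(S)` inside a class of `Aut(S)`.** -/
theorem free_of_index_le_two {S : Type*} [Group S] [Finite S] [IsSimpleGroup S] (hna : ¬ IsMulCommutative S)
    (h2 : 2 ∣ Nat.card S) (hi : (MulAut.conj : S →* MulAut S).range.index ≤ 2) :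
    ¬ ∃ α : MulAut S, ∀ s : S, IsConj α (α * MulAut.conj s) := by
  rintro ⟨α, hα⟩
  have hc : center S = ⊥ := by
    rcases (inferInstance : (center S).Normal).eq_bot_or_eq_top with h | h
    · exact h
    · exfalso
      apply hna
      exact ⟨⟨fun a b => (mem_center_iff.1 (show b ∈ center S by rw [h]; trivial) a)⟩⟩
  have hinj := conj_injective hc
  by_cases hin : α ∈ (MulAut.conj : S →* MulAut S).range
  · obtain ⟨t, rfl⟩ := hin
    have h3 := hα t⁻¹
    rw [← map_mul, mul_inv_cancel, map_one, isConj_one_left] at h3
    have h4 : t = 1 := hinj (by rw [h3, map_one])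
    obtain ⟨s, hs⟩ := exists_ne (1 : S)
    have h5 := hα s
    rw [h3, one_mul, isConj_one_right] at h5
    exact hs (hinj (by rw [h5, map_one]))
  · have h0 : (MulAut.conj : S →* MulAut S).range.index ≠ 0 := Subgroup.index_ne_zero_of_finite
    have h1 : (MulAut.conj : S →* MulAut S).range.index ≠ 1 := by
      intro h
      rw [Subgroup.index_eq_one] at h
      exact hin (by rw [h]; trivial)
    have hidx : (MulAut.conj : S →* MulAut S).range.index = 2 := by omega
    have hcI : Nat.card (MulAut.conj : S →* MulAut S).range = Nat.card S :=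
      Nat.card_congr (MonoidHom.ofInjective hinj).symm.toEquiv
    have hcA : Nat.card S * 2 = Nat.card (MulAut S) := by
      rw [← hcI, ← hidx]
      exact Subgroup.card_mul_index _
    have hα1 : α ≠ 1 := by
      rintro rfl
      exact hin (one_mem _)
    have h4 : 4 ∣ Nat.card (MulAut S) := by
      rw [← hcA]
      exact mul_dvd_mul h2 (dvd_refl 2)
    have h5 := card_centralizer_gt h4 hα1
    -- the class of `α` is large
    have h6 : Nat.card S ≤ (centralizer ({α} : Set (MulAut S))).index := by
      choose c hc' using fun s : S => isConj_iff.1 (hα s)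
      refine Nat.card_le_card_of_injective (fun s : S => (QuotientGroup.mk (c s) :
        MulAut S ⧸ centralizer ({α} : Set (MulAut S)))) ?_
      intro s t hst
      have h7 : (c s)⁻¹ * c t ∈ centralizer ({α} : Set (MulAut S)) := QuotientGroup.eq.1 hst
      rw [mem_centralizer_singleton_iff] at h7
      have h8 : c s * α * (c s)⁻¹ = c t * α * (c t)⁻¹ := by
        calc c s * α * (c s)⁻¹ = c s * (α * ((c s)⁻¹ * c t)) * (c t)⁻¹ := by group
          _ = c s * ((c s)⁻¹ * c t * α) * (c t)⁻¹ := by rw [h7]
          _ = _ := by group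
      rw [hc', hc'] at h8
      exact hinj (mul_left_cancel h8)
    have h7 := Subgroup.card_mul_index (centralizer ({α} : Set (MulAut S)))
    have h8 : 0 < Nat.card S := Nat.card_pos
    nlinarith

end Cfsg.Agent.H498.OutTwo
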