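import Mathlib
import Cfsg.Agent.S0205
import Cfsg.Agent.S0254
import Cfsg.Agent.Mrg.Omega.ML.AltRow
import Cfsg.Agent.StandardComponent.AltAut
import Cfsg.Agent.TitsK.RankRK
import Cfsg.Agent.H498.LieFree
import Cfsg.Agent.H498.OutTwo
import Cfsg.Agent.H498.SporOut
import Cfsg.Agent.H498.CosetSolv

/-!
# No coset of `Inn(S)` lies in a conjugacy class of `Aut(S)`, for the known simple groups `S`
-/

set_option autoImplicit false

namespace Cfsg.Agent.H498.KnownFree

open Cfsg Subgroup Cfsg.Agent.H498.CosetSolv

/-- A non-abelian finite simple group has even order. -/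
theorem two_dvd_card {S : Type*} [Group S] [Finite S] [IsSimpleGroup S] (hna : ¬ IsMulCommutative S) :
    2 ∣ Nat.card S := by
  by_contra h
  have h1 : Odd (Nat.card S) := by
    rw [← Nat.not_even_iff_odd, even_iff_two_dvd]
    exact h
  have h2 : Group.IsSolvable S := S0205.result h1
  exact hna ⟨⟨IsSimpleGroup.comm_iff_isSolvable.2 h2⟩⟩

theorem center_eq_bot {S : Type*} [Group S] [IsSimpleGroup S] (hna : ¬ IsMulCommutative S) : center S = ⊥ := by
  rcases (inferInstance : (center S).Normal).eq_bot_or_eq_top with h | h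
  · exact h
  · exfalso
    apply hna
    exact ⟨⟨fun a b => (mem_center_iff.1 (show b ∈ center S by rw [h]; trivial) a)⟩⟩

/-- an automorphism centralising the inner ones is trivial -/
theorem centralizer_inn {S : Type*} [Group S] (hc : center S = ⊥) :
    centralizer ((MulAut.conj : S →* MulAut S).range : Set (MulAut S)) = ⊥ := by
  rw [eq_bot_iff]
  intro f hf
  rw [mem_bot]
  ext s
  have h1 := mem_centralizer_iff.1 hf (MulAut.conj s) ⟨s, rfl⟩
  have h2 : MulAut.conj (f s) = MulAut.conj s := by
    have h3 : f * MulAut.conj s * f⁻¹ = MulAut.conj (f s) := by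
      ext t
      show f (s * f⁻¹ t * s⁻¹) = f s * t * (f s)⁻¹
      rw [map_mul, map_mul, map_inv]
      have : f (f⁻¹ t) = t := f.apply_symm_apply t
      rw [this]
    rw [← h3, ← h1, mul_inv_cancel_right]
  exact OutTwo.conj_injective hc h2

/-- the alternating groups of degree at least seven -/
theorem index_alt {n : ℕ} (hn : 7 ≤ n) {S : Type*} [Group S] (e : S ≃* alternatingGroup (Fin n)) :
    (MulAut.conj : S →* MulAut S).range.index ≤ 2 := by
  classical
  rw [SporOut.index_congr e]
  obtain ⟨ψ, hψ⟩ := StandardComponent.AltAut.exists_autHom n hn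
  have hinj : Function.Injective ψ := by
    intro a b hab
    ext x : 1
    apply Subtype.ext
    rw [hψ, hψ, hab]
  have h1 : Nat.card (MulAut (alternatingGroup (Fin n))) ≤ Nat.card (Equiv.Perm (Fin n)) :=
    Nat.card_le_card_of_injective ψ hinj
  have : Nontrivial (Fin n) := Fin.nontrivial_iff_two_le.2 (by omega)
  have h2 : 2 * Nat.card (alternatingGroup (Fin n)) = Nat.card (Equiv.Perm (Fin n)) := by
    rw [Nat.card_eq_fintype_card, Nat.card_eq_fintype_card]
    exact two_mul_card_alternatingGroup
  have hc : center (alternatingGroup (Fin n)) = ⊥ := alternatingGroup.center_eq_bot (by simp; omega)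
  have h3 : Nat.card (MulAut.conj : alternatingGroup (Fin n) →* MulAut (alternatingGroup (Fin n))).range =
      Nat.card (alternatingGroup (Fin n)) :=
    Nat.card_congr (MonoidHom.ofInjective (OutTwo.conj_injective hc)).symm.toEquiv
  have h4 := Subgroup.card_mul_index (MulAut.conj : alternatingGroup (Fin n) →* MulAut (alternatingGroup (Fin n))).range
  rw [h3] at h4
  rw [← h4, ← h2, mul_comm 2] at h1
  exact Nat.le_of_mul_le_mul_left h1 Nat.card_pos

/-- **The known simple groups are `Free`.** -/
theorem free_of_known {S : Type*} [Group S] [Finite S] [IsSimpleGroup S] (hna : ¬ IsMulCommutative S)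
    (h : IsKnownSimple' S) : Free S := by
  have h2 := two_dvd_card hna
  have hc := center_eq_bot hna
  rcases Omega.ML.Known.cases h with h | h | ⟨⟨p, hp, -, h⟩, -⟩ | h | ⟨n, hn, -, ⟨e⟩⟩ | h | h
  · exfalso
    have h3 : Nat.Prime (Nat.card S) := h
    have : Fact (Nat.card S).Prime := ⟨h3⟩
    have hcyc : IsCyclic S := isCyclic_of_prime_card (α := S) rfl
    exact hna IsCyclic.isMulCommutative
  · have : Fact (Nat.Prime 2) := ⟨Nat.prime_two⟩
    exact SplitOpp.free_of_opp (LieFree.oppTrans_of_lieChar Nat.prime_two h)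
  · have : Fact p.Prime := ⟨hp⟩
    exact SplitOpp.free_of_opp (LieFree.oppTrans_of_lieChar hp h)
  · obtain ⟨e⟩ := h
    obtain ⟨f⟩ := S0254.psl_k9
    have h3 : IsLieTypeChar 3 S := by
      refine Or.inl ⟨S0254.K9, inferInstance, inferInstance, ?_, 2, le_rfl, fun _ => ?_, ⟨e.trans f.symm⟩⟩
      · have : Fact (Nat.Prime 3) := ⟨Nat.prime_three⟩
        refine charP_of_card_eq_prime_pow (f := 2) ?_
        rw [S0254.card_k9]
        norm_num
      · rw [S0254.card_k9]
        norm_num
    have : Fact (Nat.Prime 3) := ⟨Nat.prime_three⟩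
    exact SplitOpp.free_of_opp (LieFree.oppTrans_of_lieChar Nat.prime_three h3)
  · exact OutTwo.free_of_index_le_two hna h2 (index_alt hn e)
  · refine OutTwo.free_of_index_le_two hna h2 ?_
    have hn : ((MulAut.conj : S →* MulAut S).range).Normal := by
      constructor
      rintro _ ⟨s, rfl⟩ f
      refine ⟨f s, ?_⟩
      ext t
      show f s * t * (f s)⁻¹ = f (s * f⁻¹ t * s⁻¹)
      rw [map_mul, map_mul, map_inv]
      have : f (f⁻¹ t) = t := f.apply_symm_apply t
      rw [this]
    exact TitsK.index_le h _ ⟨(MonoidHom.ofInjective (OutTwo.conj_injective hc)).symm⟩ (centralizer_inn hc)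
  · exact OutTwo.free_of_index_le_two hna h2 (SporOut.index_le_two h)

end Cfsg.Agent.H498.KnownFree
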